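import Groth.Agent.L09.OverMapSp.RepW
import Groth.Agent.L24.LocQ.Descent
import Groth.Agent.S10127
import Groth.Agent.S10120
import Groth.Agent.S10350
import Mathlib.CategoryTheory.Monoidal.Cartesian.Grp

/-!
# A group presheaf over a field represented by a quasi-separated space is represented by a scheme
-/

set_option autoImplicit false
set_option backward.isDefEq.respectTransparency false
set_option backward.isDefEq.respectTransparency.types false
set_option linter.style.haveILetI false
set_option linter.unusedSectionVars false
set_option linter.unusedVariables false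
set_option synthInstance.maxHeartbeats 400000

universe u

open CategoryTheory CategoryTheory.Limits AlgebraicGeometry Opposite AlgSp

noncomputable section

namespace Groth.L23.StabScheme

open Groth.L09.OverMapSp

variable {S : Scheme.{u}} {K : Type u} [Field K] (p : Spec (CommRingCat.of K) ⟶ S)

/-- Schemes over the field as schemes over the point. -/
def back : Over (Spec (CommRingCat.of K)) ⥤ Over (Over.mk p) where
  obj T := Over.mk (strMap (g := p) T)
  map {T T'} b := Over.homMk ((Over.map p).map b) (Over.OverMorphism.ext (Over.w b))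
  map_id T := Over.OverMorphism.ext ((Over.map p).map_id T)
  map_comp b b' := Over.OverMorphism.ext ((Over.map p).map_comp b b')

variable {p} {F : Sp S} (π : F ⟶ (yon S).obj (Over.mk p))

/-- The sections over an object over the point. -/
def SecOver (T : Over (Over.mk p)) : Type (u + 1) :=
  {z : F.obj.obj (op T.left) // π.hom.app (op T.left) z = ⟨T.hom⟩}

/-- Restriction of sections. -/
def SecOver.res {T' T : Over (Over.mk p)} (h : T' ⟶ T) (z : SecOver π T) : SecOver π T' :=
  ⟨F.obj.map h.left.op z.1, by
    rw [NatTrans.naturality_apply (φ := π.hom), z.2]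
    exact congrArg ULift.up (Over.w h)⟩

/-- The map from the terminal sheaf classifying the structure morphisms. -/
def delta : (yon (Spec (CommRingCat.of K))).obj (Over.mk (𝟙 _)) ⟶ (res p).obj ((yon S).obj (Over.mk p)) :=
  (homEquiv (Over.mk (𝟙 _))).symm ((yon S).map (strMap (g := p) (Over.mk (𝟙 _))))

theorem comp_delta {T : Over (Spec (CommRingCat.of K))}
    (t : (yon (Spec (CommRingCat.of K))).obj T ⟶ (yon (Spec (CommRingCat.of K))).obj (Over.mk (𝟙 _))) :
    homEquiv T (t ≫ delta (p := p)) = (yon S).map (strMap (g := p) T) := by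
  obtain ⟨t, rfl⟩ := (yon (Spec (CommRingCat.of K))).map_surjective t
  rw [homEquiv_naturality, delta, Equiv.apply_symm_apply, ← Functor.map_comp]
  congr 1
  exact Over.OverMorphism.ext (Over.w t)

/-- The fibre over the field. -/
abbrev fib : Sp (Spec (CommRingCat.of K)) := pullback ((res p).map π) (delta (p := p))

/-- The point. -/
abbrev pnt (K : Type u) [Field K] : Sp (Spec (CommRingCat.of K)) := (yon (Spec (CommRingCat.of K))).obj (Over.mk (𝟙 _))

theorem isTerminal_pnt (K : Type u) [Field K] : Nonempty (IsTerminal (pnt K)) :=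
  ⟨Over.mkIdTerminal.isTerminalObj (yon (Spec (CommRingCat.of K))) _⟩

theorem pnt_hom_ext {Z : Sp (Spec (CommRingCat.of K))} (a b : Z ⟶ pnt K) : a = b :=
  (isTerminal_pnt K).some.hom_ext a b

theorem isAlgSpace_fib (hF : IsAlgSpace F) : IsAlgSpace (fib π) :=
  Groth.L23.isAlgSpace_of_isPullback (isAlgSpace_res (IsAlgSpace.yon_obj (Over.mk p))).diag (isAlgSpace_res hF)
    (IsAlgSpace.yon_obj _) (IsPullback.of_hasPullback _ _)

/-- The fibre structure. -/
def fibre : Fibre p π (fib π) where
  ι {T} x := homEquiv T (x ≫ pullback.fst _ _)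
  nat b x := by rw [← homEquiv_naturality, Category.assoc]
  ι_π {T} x := by rw [← homEquiv_comp, Category.assoc, pullback.condition, ← Category.assoc, comp_delta]
  inj {T x x'} h := pullback.hom_ext ((homEquiv T).injective h) (pnt_hom_ext _ _)
  surj {T} z hz := ⟨pullback.lift ((homEquiv T).symm z) ((isTerminal_pnt K).some.from _)
    ((homEquiv T).injective (by rw [homEquiv_comp, Equiv.apply_symm_apply, hz, comp_delta])),
    by rw [pullback.lift_fst, Equiv.apply_symm_apply]⟩

theorem repWith_diag_fib (h : IsQuasiSeparatedMor π) : IsQuasiSeparatedSp (fib π) := by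
  let P : MorphismProperty (Sp (Spec (CommRingCat.of K))) := RepWith @QuasiCompact
  have e : (res p).map (pullback.diagonal π) ≫ (PreservesPullback.iso (res p) π π).hom =
      pullback.diagonal ((res p).map π) := by
    apply pullback.hom_ext
    · rw [Category.assoc, PreservesPullback.iso_hom_fst, ← Functor.map_comp, pullback.diagonal_fst,
        pullback.diagonal_fst, CategoryTheory.Functor.map_id]
    · rw [Category.assoc, PreservesPullback.iso_hom_snd, ← Functor.map_comp, pullback.diagonal_snd,
        pullback.diagonal_snd, CategoryTheory.Functor.map_id]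
  have h1 : P.diagonal ((res p).map π) := by
    show P (pullback.diagonal ((res p).map π))
    rw [← e]
    exact (MorphismProperty.cancel_right_of_respectsIso P _ _).2 (repWith_res _ h)
  have h2 : P.diagonal (pullback.snd ((res p).map π) (delta (p := p))) :=
    MorphismProperty.pullback_snd _ _ h1
  let hs := pullback.snd ((res p).map π) (delta (p := p))
  let i : pullback hs hs ≅ fib π ⨯ fib π :=
    { hom := prod.lift (pullback.fst hs hs) (pullback.snd hs hs)
      inv := pullback.lift prod.fst prod.snd (pnt_hom_ext _ _)
      hom_inv_id := by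
        apply pullback.hom_ext
        · rw [Category.assoc, pullback.lift_fst]; erw [prod.lift_fst]; rw [Category.id_comp]
        · rw [Category.assoc, pullback.lift_snd]; erw [prod.lift_snd]; rw [Category.id_comp]
      inv_hom_id := by
        apply prod.hom_ext
        · rw [Category.assoc, prod.lift_fst, Category.id_comp]; exact pullback.lift_fst _ _ _
        · rw [Category.assoc, prod.lift_snd, Category.id_comp]; exact pullback.lift_snd _ _ _ }
  show P (Limits.diag (fib π))
  have e2 : Limits.diag (fib π) = pullback.diagonal hs ≫ i.hom := by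
    apply prod.hom_ext <;> simp [i]
  rw [e2]
  haveI : IsIso i.hom := Iso.isIso_hom i
  exact (MorphismProperty.cancel_right_of_respectsIso P _ _).2 h2

/-- Maps into the fibre from schemes as sections. -/
def homSec (T : Over (Spec (CommRingCat.of K))) :
    ((yon (Spec (CommRingCat.of K))).obj T ⟶ fib π) ≃ SecOver π ((back p).obj T) :=
  Equiv.ofBijective
    (fun x => ⟨(AlgSp.J S).uliftYonedaEquiv ((fibre π).ι x), by
      have e := congrArg (AlgSp.J S).uliftYonedaEquiv ((fibre π).ι_π x)
      rw [GrothendieckTopology.uliftYonedaEquiv_comp, GrothendieckTopology.uliftYonedaEquiv_uliftYoneda_map] at e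
      exact e⟩)
    ⟨fun x x' e => (fibre π).inj ((AlgSp.J S).uliftYonedaEquiv.injective (congrArg Subtype.val e)),
      fun z => by
        obtain ⟨x, hx⟩ := (fibre π).surj ((AlgSp.J S).uliftYonedaEquiv.symm z.1)
          ((AlgSp.J S).uliftYonedaEquiv.injective (by
            rw [GrothendieckTopology.uliftYonedaEquiv_comp, GrothendieckTopology.uliftYonedaEquiv_uliftYoneda_map,
              Equiv.apply_symm_apply]
            exact z.2))
        exact ⟨x, Subtype.ext ((congrArg (AlgSp.J S).uliftYonedaEquiv hx).trans (Equiv.apply_symm_apply _ _))⟩⟩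

theorem homSec_natural {T' T : Over (Spec (CommRingCat.of K))} (b : T' ⟶ T)
    (x : (yon (Spec (CommRingCat.of K))).obj T ⟶ fib π) :
    homSec π T' ((yon (Spec (CommRingCat.of K))).map b ≫ x) = SecOver.res π ((back p).map b) (homSec π T x) :=
  Subtype.ext (by
    show (AlgSp.J S).uliftYonedaEquiv ((fibre π).ι _) = F.obj.map _ ((AlgSp.J S).uliftYonedaEquiv ((fibre π).ι x))
    rw [← (fibre π).nat]
    exact ((AlgSp.J S).uliftYonedaEquiv_naturality ((fibre π).ι x) ((Over.map p).map b)).symm)

variable {π} (P : (Over (Over.mk p))ᵒᵖ ⥤ GrpCat.{u}) (eqv : ∀ T, SecOver π T ≃ P.obj (op T))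

/-- The group presheaf over the field. -/
abbrev grpPre : (Over (Spec (CommRingCat.of K)))ᵒᵖ ⥤ GrpCat.{u} := (back p).op ⋙ P

variable (hnat : ∀ {T' T : Over (Over.mk p)} (h : T' ⟶ T) (z : SecOver π T),
  eqv T' (SecOver.res π h z) = P.map h.op (eqv T z))

/-- Sections of the fibre as elements of the group. -/
def secEq (T : Over (Spec (CommRingCat.of K))) : (fib π).obj.obj (op T) ≃ (grpPre P).obj (op T) :=
  (AlgSp.J (Spec (CommRingCat.of K))).uliftYonedaEquiv.symm.trans ((homSec π T).trans (eqv _))

include hnat in
theorem secEq_natural {T' T : Over (Spec (CommRingCat.of K))} (b : T' ⟶ T) (s : (fib π).obj.obj (op T)) :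
    secEq P eqv T' ((fib π).obj.map b.op s) = (grpPre P).map b.op (secEq P eqv T s) := by
  show eqv _ (homSec π T' ((AlgSp.J _).uliftYonedaEquiv.symm _)) = P.map ((back p).map b).op (eqv _ (homSec π T _))
  rw [← hnat, GrothendieckTopology.uliftYonedaEquiv_symm_map, homSec_natural]
  rfl

/-- Natural families of elements of the group over a sheaf. -/
def natFam (Z : Sp (Spec (CommRingCat.of K))) :
    Subgroup (∀ T : Over (Spec (CommRingCat.of K)), Z.obj.obj (op T) → (grpPre P).obj (op T)) where
  carrier := {f | ∀ {T' T : Over (Spec (CommRingCat.of K))} (b : T' ⟶ T) (v : Z.obj.obj (op T)),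
    f T' (Z.obj.map b.op v) = (grpPre P).map b.op (f T v)}
  mul_mem' {f g} hf hg := fun b v => by
    show f _ _ * g _ _ = (grpPre P).map b.op (f _ v * g _ v)
    rw [map_mul, hf, hg]
  one_mem' := fun b v => (map_one _).symm
  inv_mem' {f} hf := fun b v => by
    show (f _ _)⁻¹ = (grpPre P).map b.op (f _ v)⁻¹
    rw [map_inv, hf]

/-- The families as a presheaf of groups on spaces over the point. -/
def famPre : (Over (pnt K))ᵒᵖ ⥤ GrpCat.{u + 1} where
  obj Z := GrpCat.of (natFam P Z.unop.left)
  map {Z Z'} a := GrpCat.ofHom
    { toFun := fun f => ⟨fun T v => f.1 T (a.unop.left.hom.app (op T) v), fun {T' T} b v => by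
        dsimp only
        rw [NatTrans.naturality_apply (φ := a.unop.left.hom)]
        exact f.2 b _⟩
      map_one' := rfl
      map_mul' := fun _ _ => rfl }
  map_id _ := rfl
  map_comp _ _ := rfl

/-- The fibre over the point. -/
abbrev fibOver : Over (pnt K) := Over.mk (pullback.snd ((res p).map π) (delta (p := p)))

/-- It represents the families. -/
def famRep : (famPre P ⋙ forget _).RepresentableBy (fibOver (π := π)) where
  homEquiv {Z} :=
    { toFun := fun a => (⟨fun T v => secEq P eqv T (a.left.hom.app (op T) v), fun {T' T} b v => by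
        dsimp only
        rw [NatTrans.naturality_apply (φ := a.left.hom)]
        exact secEq_natural P eqv hnat b _⟩ : natFam P Z.left)
      invFun := fun f => Over.homMk (ObjectProperty.homMk
        { app := fun T => ↾fun v => (secEq P eqv T.unop).symm ((show natFam P Z.left from f).1 T.unop v)
          naturality := fun T T' b => by
            ext v
            apply (secEq P eqv T'.unop).injective
            refine ((secEq P eqv T'.unop).apply_symm_apply _).trans ?_
            refine Eq.trans ?_ (secEq_natural P eqv hnat b.unop _).symm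
            show _ = (grpPre P).map b ((secEq P eqv T.unop) ((secEq P eqv T.unop).symm _))
            rw [Equiv.apply_symm_apply]
            exact (show natFam P Z.left from f).2 b.unop v }) (pnt_hom_ext _ _)
      left_inv := fun a => Over.OverMorphism.ext (ObjectProperty.hom_ext _ (by
        ext T v
        exact (secEq P eqv T.unop).symm_apply_apply _))
      right_inv := fun f => Subtype.ext (funext fun T => funext fun v => (secEq P eqv T).apply_symm_apply _) }
  homEquiv_comp _ _ := rfl

include hnat in
/-- A quasi-separated space over the point whose sections form a group is a scheme. -/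
theorem exists_scheme (hF : IsAlgSpace F) (hq : IsQuasiSeparatedMor π) :
    ∃ G₀ : Over (Spec (CommRingCat.of K)), Nonempty ((yon (Spec (CommRingCat.of K))).obj G₀ ≅ fib π) := by
  letI := GrpObj.ofRepresentableBy (fibOver (π := π)) (famPre P) (famRep P eqv hnat)
  have hX : IsAlgSpace (fibOver (π := π)).left := isAlgSpace_fib π hF
  have hd : IsDecent (fibOver (π := π)).left :=
    Groth.Agent.S10350.result ⟨fib π, isAlgSpace_fib π hF⟩ (repWith_diag_fib π hq)
  exact Groth.L23.isRepresentable_iff_exists_iso.1 (Groth.Agent.S10120.result K (fibOver (π := π)) hX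
    (Groth.Agent.S10127.result K (fibOver (π := π)) hX hd))

include hnat in
/-- The representing group scheme over the field, locally of finite type. -/
theorem exists_group (hF : IsAlgSpace F) (hq : IsQuasiSeparatedMor π) (hl : LocP @LocallyOfFiniteType π) :
    ∃ G₀ : Over (Spec (CommRingCat.of K)), LocallyOfFiniteType G₀.hom ∧
      Nonempty ((grpPre P ⋙ forget _).RepresentableBy G₀) := by
  obtain ⟨G₀, ⟨e⟩⟩ := exists_scheme P eqv hnat hF hq
  refine ⟨G₀, ?_, ⟨
    { homEquiv := fun {T} => ((Functor.FullyFaithful.ofFullyFaithful (yon _)).homEquiv.trans e.homToEquiv).trans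
        ((homSec π T).trans (eqv _))
      homEquiv_comp := fun {T T'} b k => by
        show eqv _ (homSec π T ((yon _).map (b ≫ k) ≫ e.hom)) =
          P.map ((back p).map b).op (eqv _ (homSec π T' ((yon _).map k ≫ e.hom)))
        rw [← hnat, Functor.map_comp, Category.assoc, homSec_natural] }⟩⟩
  obtain ⟨θ, hθ, hθπ⟩ := (fibre π).exists_iso
  haveI := isIso_incl_id p G₀
  let j : (yon S).obj ((Over.map p).obj G₀) ⟶ F := incl p (𝟙 _) ≫ totMap e.hom ≫ θ
  haveI : IsIso (totMap (g := p) e.hom) := inferInstanceAs (IsIso ((totF p).map e.hom))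
  haveI : IsIso j := inferInstanceAs (IsIso (incl p (𝟙 _) ≫ totMap e.hom ≫ θ))
  have hj : j ≫ π = (yon S).map (strMap (g := p) G₀) := by
    simp only [j, Category.assoc, hθπ, totMap_proj, incl_proj]
  have h1 : LocP @LocallyOfFiniteType ((yon S).map (strMap (g := p) G₀)) := by
    rw [← hj]
    exact Groth.L23.locP_comp Groth.L23.etLocal_lft (IsAlgSpace.yon_obj _) hF (IsAlgSpace.yon_obj _)
      (Groth.L23.locP_of_repWith Groth.L23.etLocal_lft (Groth.L23.repWith_of_isIso j)) hl
  exact (Groth.L24.LocQ.locP_map_iff Groth.L23.etLocal_lft _).1 h1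

end Groth.L23.StabScheme
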