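import Groth.Agent.L09.Gerbe.SecAut
import Groth.Agent.L24.St.Sp
import Groth.Agent.L24.St.Calc
import Groth.Agent.L24.St.InertiaSep
import Groth.Prelude.Def_StGerb2

/-!
# The automorphism presheaf of a point as the fibre of the inertia
-/

set_option autoImplicit false
set_option backward.isDefEq.respectTransparency false
set_option backward.isDefEq.respectTransparency.types false
set_option linter.style.haveILetI false
set_option linter.unusedSectionVars false

universe u

open CategoryTheory CategoryTheory.Limits AlgebraicGeometry Opposite AlgSt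

noncomputable section

namespace Groth.L23.StabScheme

open Groth.L24.St Groth.L09.Gerbe

variable {S : Scheme.{u}} {𝒳 : AlgSt.Cat S} {U : Over S} (x : FibCat.overCat U ⥤ᵇ 𝒳)
  (h : FibCat.IsFibGrpd 𝒳.p)

/-- The point as a functor from the category of the representable sheaf. -/
abbrev sec0 : ofSp ((AlgSp.yon S).obj U) ⥤ᵇ 𝒳 := BasedFunctor.comp (toOverCat U) x

/-- The presheaf of pairs of a point of the base and an automorphism over it. -/
abbrev autP : AlgSp.PSp S := Sec.gPsh (x := sec0 x) h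

/-- The fibre of the inertia over the point. -/
abbrev inF : AlgSt.Cat S := FibCat.fp x (FibCat.inertiaToBase (FibCat.toSelf 𝒳))

/-- Its projection to the base. -/
def autProj : autP x h ⟶ ((AlgSp.yon S).obj U).obj where
  app _ := ↾fun p => p.s
  naturality T T' k := by ext p; exact (Sec.gPsh_s h k.unop p).symm

theorem map_autO_eq_id {z : 𝒳.obj} (α : Gerb.AutO z) : 𝒳.p.map α.hom.1 = 𝟙 (𝒳.p.obj z) := by
  obtain ⟨e, he⟩ := OverId.eq (𝒳 := 𝒳) α.hom.2
  exact he.trans (eqToHom_refl _ _)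

/-- A pair as an object of the fibre of the inertia. -/
def toInObj (a : (Stk.ofPsh (autP x h)).obj) : (inF x).obj :=
  fpObj (F := x) (G := FibCat.inertiaToBase (FibCat.toSelf 𝒳))
    (Over.mk (show Sec.GPt (sec0 x) a.base from a.sec).s.down)
    ⟨x.obj (Over.mk (show Sec.GPt (sec0 x) a.base from a.sec).s.down),
      Functor.Fiber.fiberInclusion.mapIso (show Sec.GPt (sec0 x) a.base from a.sec).α,
      map_autO_eq_id (show Sec.GPt (sec0 x) a.base from a.sec).α⟩
    (Iso.refl _) (overId_id _)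

theorem rel_of_hom {a b : (Stk.ofPsh (autP x h)).obj} (m : a ⟶ b) :
    Sec.Rel m.hom (show Sec.GPt (sec0 x) a.base from a.sec) (show Sec.GPt (sec0 x) b.base from b.sec) := by
  have e : (show Sec.GPt (sec0 x) b.base from b.sec).res h m.hom = (show Sec.GPt (sec0 x) a.base from a.sec) :=
    m.map_sec
  rw [← e]
  exact Sec.rel_res h m.hom _

/-- A morphism of pairs as a morphism of the fibre of the inertia. -/
def toInMap {a b : (Stk.ofPsh (autP x h)).obj} (m : a ⟶ b) : toInObj x h a ⟶ toInObj x h b :=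
  fpHom (F := x) (G := FibCat.inertiaToBase (FibCat.toSelf 𝒳))
    (Over.homMk m.hom (congrArg ULift.down (rel_of_hom x h m).eq))
    ⟨x.map (Over.homMk m.hom (congrArg ULift.down (rel_of_hom x h m).eq) :
        Over.mk (show Sec.GPt (sec0 x) a.base from a.sec).s.down ⟶
          Over.mk (show Sec.GPt (sec0 x) b.base from b.sec).s.down), (rel_of_hom x h m).comm⟩
    ((Category.comp_id _).trans (Category.id_comp _).symm)

/-- Pairs to the fibre of the inertia. -/
def toIn : Stk.ofPsh (autP x h) ⥤ᵇ inF x where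
  toFunctor :=
    { obj := toInObj x h
      map := toInMap x h
      map_id := fun a => fp_ext (Over.OverMorphism.ext rfl)
        (FibCat.InertiaObj.hom_ext ((congrArg x.map (Over.OverMorphism.ext rfl)).trans (x.toFunctor.map_id _)))
      map_comp := fun m n => fp_ext (Over.OverMorphism.ext rfl)
        (FibCat.InertiaObj.hom_ext (by
          show x.map _ = x.map _ ≫ x.map _
          rw [← x.toFunctor.map_comp]
          exact congrArg x.map (Over.OverMorphism.ext rfl))) }
  w := rfl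

theorem toIn_isEquivOver : FibCat.IsEquivOver (toIn x h) := by
  have : (toIn x h).toFunctor.Faithful := ⟨fun {a b m m'} e => Stk.EltObj.hom_ext
    (congrArg (fun t : toInObj x h a ⟶ toInObj x h b => t.hom.fst.left) (show toInMap x h m = toInMap x h m' from e) :)⟩
  have : (toIn x h).toFunctor.Full := ⟨fun {a b} M => by
    let p : Sec.GPt (sec0 x) a.base := a.sec
    let q : Sec.GPt (sec0 x) b.base := b.sec
    let μ : Over.mk p.s.down ⟶ Over.mk q.s.down := M.hom.fst
    have hw : x.map μ ≫ 𝟙 _ = 𝟙 _ ≫ M.hom.snd.hom := M.hom.w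
    rw [Category.comp_id, Category.id_comp] at hw
    have e : ((AlgSp.yon S).obj U).obj.map μ.left.op q.s = p.s := congrArg ULift.up (Over.w μ)
    have hc : p.α.hom.1 ≫ x.map μ = x.map μ ≫ q.α.hom.1 := by
      rw [hw]; exact M.hom.snd.comm
    exact ⟨⟨μ.left, Sec.Rel.unique h (Sec.rel_res h μ.left q) ⟨e, hc⟩⟩, fp_ext (Over.OverMorphism.ext rfl)
      (FibCat.InertiaObj.hom_ext ((congrArg x.map (Over.OverMorphism.ext rfl)).trans hw))⟩⟩
  refine isEquivOver_of_overId _ fun η => ?_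
  let T₁ : Over U := η.obj.fst
  let z : FibCat.InertiaObj (FibCat.toSelf 𝒳) := η.obj.snd
  let k : x.obj T₁ ≅ z.pt := η.obj.iso
  have hk : OverId (𝒳 := 𝒳) k.hom := fp_overId η
  have hz : OverId (𝒳 := 𝒳) z.aut.hom := inertia_aut_lift (FibCat.toSelf 𝒳) z
  have := hk.comp (hz.comp (OverId.inv hk))
  haveI : 𝒳.p.IsHomLift (𝟙 (𝒳.p.obj (x.obj T₁))) (k.hom ≫ z.aut.hom ≫ k.inv) := this
  obtain ⟨α, hα⟩ := Groth.L09.Gerb.exists_autO h (V := 𝒳.p.obj (x.obj T₁)) (k.hom ≫ z.aut.hom ≫ k.inv)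
  let a : (Stk.ofPsh (autP x h)).obj := ⟨T₁.left, (⟨⟨T₁.hom⟩, α⟩ : Sec.GPt (sec0 x) T₁.left)⟩
  have hc : α.hom.1 ≫ k.hom = k.hom ≫ z.aut.hom := by simp [hα]
  let j : (⟨x.obj T₁, Functor.Fiber.fiberInclusion.mapIso α, map_autO_eq_id α⟩ :
      FibCat.InertiaObj (FibCat.toSelf 𝒳)) ≅ z :=
    { hom := ⟨k.hom, hc⟩
      inv := ⟨k.inv, by
        show z.aut.hom ≫ k.inv = k.inv ≫ α.hom.1
        rw [hα, Iso.inv_hom_id_assoc]⟩
      hom_inv_id := FibCat.InertiaObj.hom_ext k.hom_inv_id
      inv_hom_id := FibCat.InertiaObj.hom_ext k.inv_hom_id }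
  refine ⟨a, fpIsoMk (Iso.refl T₁) j ?_, overId_fp _ (overId_id _)⟩
  show x.map (𝟙 T₁) ≫ k.hom = 𝟙 _ ≫ k.hom
  rw [x.toFunctor.map_id]

/-- A space representing the fibre of the inertia has the automorphism pairs as its sections. -/
theorem exists_autP_iso {F : AlgSp.Sp S} {e : ofSp F ⥤ᵇ inF x} (he : FibCat.IsEquivOver e) :
    ∃ θ : autP x h ≅ F.obj, θ.hom ≫ (spMapOfOver (BasedFunctor.comp e (FibCat.fpFst _ _))).hom = autProj x h := by
  obtain ⟨Ψ, hΨ, -, ⟨i⟩⟩ := exists_inverse he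
  let Θ : Stk.ofPsh (autP x h) ⥤ᵇ Stk.ofPsh F.obj := BasedFunctor.comp (toIn x h) Ψ
  haveI := isIso_pshMapOf (Φ := Θ) (isEquivOver_comp (toIn_isEquivOver x h) hΨ)
  refine ⟨asIso (pshMapOf Θ), ?_⟩
  show pshMapOf Θ ≫ pshMapOf (BasedFunctor.comp (BasedFunctor.comp e (FibCat.fpFst _ _)) (ofOverCat U)) = _
  rw [← pshMapOf_comp]
  refine (pshMapOf_congr (whiskerR (whiskerL (toIn x h) (whiskerR i (FibCat.fpFst _ _))) (ofOverCat U) :
    BasedFunctor.comp Θ (BasedFunctor.comp (BasedFunctor.comp e (FibCat.fpFst _ _)) (ofOverCat U)) ≅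
      BasedFunctor.comp (BasedFunctor.comp (toIn x h) (FibCat.fpFst _ _)) (ofOverCat U))).trans ?_
  ext T p
  show secAt (BasedFunctor.comp (BasedFunctor.comp (toIn x h) (FibCat.fpFst _ _)) (ofOverCat U))
    (⟨T.unop, p⟩ : Stk.EltObj (autP x h)) = (show Sec.GPt (sec0 x) T.unop from p).s
  unfold secAt
  have e : ∀ (q : ((AlgSp.yon S).obj U).obj.obj T), ((AlgSp.yon S).obj U).obj.map (eqToHom (rfl : T.unop = T.unop)).op q = q :=
    fun q => by simp
  exact e _

end Groth.L23.StabScheme
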