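import Groth.Agent.L23.StabScheme.Inertia
import Groth.Agent.L23.StabScheme.GroupSheaf
import Groth.Agent.L24.InertiaGen.Diag
import Groth.Agent.L24.St.QcSep
import Groth.Agent.L24.St.DiagSep

/-!
# Stabilizers of field-valued points are group schemes
-/

set_option autoImplicit false
set_option backward.isDefEq.respectTransparency false
set_option backward.isDefEq.respectTransparency.types false
set_option linter.style.haveILetI false
set_option linter.unusedSectionVars false
set_option linter.unusedVariables false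
set_option synthInstance.maxHeartbeats 400000

universe u

open CategoryTheory CategoryTheory.Limits AlgebraicGeometry Opposite AlgSt

noncomputable section

namespace Groth.L23.StabScheme

open Groth.L24.St Groth.L09.Gerbe

variable {S : Scheme.{u}} {𝒳 : AlgSt.Cat S} {U : Over S} (x : FibCat.overCat U ⥤ᵇ 𝒳)
  (h : FibCat.IsFibGrpd 𝒳.p)

/-- Restriction of automorphisms. -/
def autRes {T' T : Over U} (k : T' ⟶ T) (α : Gerb.AutO (x.obj T)) : Gerb.AutO (x.obj T') :=
  (Groth.L09.Band.exists_restr h (x.map k) α).choose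

theorem autRes_spec {T' T : Over U} (k : T' ⟶ T) (α : Gerb.AutO (x.obj T)) :
    (autRes x h k α).hom.1 ≫ x.map k = x.map k ≫ α.hom.1 :=
  (Groth.L09.Band.exists_restr h (x.map k) α).choose_spec

/-- The presheaf of automorphisms of the point. -/
def autPre : (Over U)ᵒᵖ ⥤ GrpCat.{u} where
  obj T := GrpCat.of (Gerb.AutO (x.obj T.unop))
  map {T T'} k := GrpCat.ofHom
    { toFun := autRes x h k.unop
      map_one' := Groth.L09.Band.autO_ext h (x.map k.unop) (by
        rw [autRes_spec]
        exact (Category.comp_id _).trans (Category.id_comp _).symm)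
      map_mul' := fun α β => Groth.L09.Band.autO_ext h (x.map k.unop) (by
        rw [autRes_spec]
        show x.map k.unop ≫ β.hom.1 ≫ α.hom.1 = ((autRes x h k.unop β).hom.1 ≫ (autRes x h k.unop α).hom.1) ≫ _
        rw [Category.assoc, autRes_spec, ← Category.assoc, ← Category.assoc, autRes_spec]) }
  map_id T := GrpCat.hom_ext (MonoidHom.ext fun α => Groth.L09.Band.autO_ext h (x.map (𝟙 T.unop)) (by
    show (autRes x h (𝟙 T.unop) α).hom.1 ≫ x.map (𝟙 T.unop) = α.hom.1 ≫ x.map (𝟙 T.unop)
    rw [autRes_spec, x.toFunctor.map_id]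
    exact (Category.id_comp _).trans (Category.comp_id _).symm))
  map_comp {T T' T''} k l := GrpCat.hom_ext (MonoidHom.ext fun α => Groth.L09.Band.autO_ext h (x.map (l.unop ≫ k.unop)) (by
    show (autRes x h (l.unop ≫ k.unop) α).hom.1 ≫ x.map (l.unop ≫ k.unop) =
      (autRes x h l.unop (autRes x h k.unop α)).hom.1 ≫ x.map (l.unop ≫ k.unop)
    rw [autRes_spec, x.toFunctor.map_comp, ← Category.assoc (autRes x h l.unop _).hom.1, autRes_spec,
      Category.assoc, Category.assoc, autRes_spec]))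

variable {F : AlgSp.Sp S} (π : F ⟶ (AlgSp.yon S).obj U) (θ : autP x h ≅ F.obj) (hθ : θ.hom ≫ π.hom = autProj x h)

include hθ in
theorem secPair_s {T : Over U} (z : F.obj.obj (op T.left)) (hz : π.hom.app (op T.left) z = ⟨T.hom⟩) :
    (show Sec.GPt (sec0 x) T.left from θ.inv.app (op T.left) z).s = ⟨T.hom⟩ := by
  have e := congrArg (fun t => t.app (op T.left) (θ.inv.app (op T.left) z)) hθ
  refine Eq.trans e.symm ?_
  show π.hom.app (op T.left) (θ.hom.app _ (θ.inv.app _ z)) = _
  rw [Iso.inv_hom_id_app_apply]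
  exact hz

variable {K : Type u} [Field K]

/-- Naturality of the automorphism of a section. -/
theorem at_res {T' T : Over U} (k : T' ⟶ T) (z : F.obj.obj (op T.left)) (hs hs')
    : ((show Sec.GPt (sec0 x) T'.left from θ.inv.app (op T'.left) (F.obj.map k.left.op z)).at ⟨T'.hom⟩ hs').hom.1 ≫
        x.map k = x.map k ≫ ((show Sec.GPt (sec0 x) T.left from θ.inv.app (op T.left) z).at ⟨T.hom⟩ hs).hom.1 := by
  have hrel : Sec.Rel k.left (show Sec.GPt (sec0 x) T'.left from θ.inv.app (op T'.left) (F.obj.map k.left.op z))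
      (show Sec.GPt (sec0 x) T.left from θ.inv.app (op T.left) z) := by
    rw [NatTrans.naturality_apply (φ := θ.inv)]
    exact Sec.rel_res h k.left _
  exact hrel.at hs hs' (congrArg ULift.up (Over.w k))

theorem exists_autRep (p : Spec (CommRingCat.of K) ⟶ S) (x : FibCat.overCat (Over.mk p) ⥤ᵇ 𝒳)
    (h : FibCat.IsFibGrpd 𝒳.p) (F : AlgSp.Space S) (e : ofSp F.obj ⥤ᵇ inF x) (he : FibCat.IsEquivOver e)
    (hl : AlgSp.LocP @LocallyOfFiniteType (spMapOfOver (BasedFunctor.comp e (FibCat.fpFst _ _))))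
    (hq : AlgSp.IsQuasiSeparatedMor (spMapOfOver (BasedFunctor.comp e (FibCat.fpFst _ _)))) :
    ∃ (G : Over (Spec (CommRingCat.of K))) (_ : GrpObj G),
      LocallyOfFiniteType G.hom ∧ Nonempty (Gerb.AutRep x (Gerb.ptsGrp (Over.mk p) G)) := by
  obtain ⟨θ, hθ⟩ := exists_autP_iso x h he
  let π := spMapOfOver (BasedFunctor.comp e (FibCat.fpFst _ _))
  let eqv : ∀ T : Over (Over.mk p), SecOver π T ≃ (autPre x h).obj (op T) := fun T =>
    { toFun := fun z => (show Sec.GPt (sec0 x) T.left from θ.inv.app (op T.left) z.1).at ⟨T.hom⟩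
        (secPair_s x h π θ hθ z.1 z.2)
      invFun := fun α => ⟨θ.hom.app (op T.left) (⟨⟨T.hom⟩, α⟩ : Sec.GPt (sec0 x) T.left), by
        have := congrArg (fun t => t.app (op T.left) (⟨⟨T.hom⟩, α⟩ : Sec.GPt (sec0 x) T.left)) hθ
        exact this⟩
      left_inv := fun z => Subtype.ext (by
        show θ.hom.app (op T.left) _ = z.1
        rw [Sec.GPt.eta]
        exact Iso.inv_hom_id_app_apply θ _ _)
      right_inv := fun α => by
        have key : ∀ (q : Sec.GPt (sec0 x) T.left) (hq : q.s = ⟨T.hom⟩),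
            q = ⟨⟨T.hom⟩, α⟩ → q.at ⟨T.hom⟩ hq = α := by rintro q hq rfl; rfl
        exact key _ _ (Iso.hom_inv_id_app_apply θ _ _) }
  have hnat : ∀ {T' T : Over (Over.mk p)} (k : T' ⟶ T) (z : SecOver π T),
      eqv T' (SecOver.res π k z) = (autPre x h).map k.op (eqv T z) := fun k z =>
    Groth.L09.Band.autO_ext h (x.map k) ((at_res x h θ k z.1 _ _).trans (autRes_spec x h k _).symm)
  obtain ⟨G, hG, ⟨r⟩⟩ := exists_group (autPre x h) eqv hnat F.property hq hl
  letI := GrpObj.ofRepresentableBy G (grpPre (autPre x h)) r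
  let η : ∀ T : Over (Over.mk p), (back p).obj ((Over.iteratedSliceForward (Over.mk p)).obj T) ≅ T := fun T =>
    Over.isoMk (Over.isoMk (Iso.refl T.left.left) ((Category.id_comp _).trans (Over.w T.hom).symm))
      (Over.OverMorphism.ext (Category.id_comp _))
  have hη : ∀ {T' T : Over (Over.mk p)} (k : T' ⟶ T),
      (η T').inv ≫ (back p).map ((Over.iteratedSliceForward (Over.mk p)).map k) = k ≫ (η T).inv := fun k => by
    apply Over.OverMorphism.ext
    apply Over.OverMorphism.ext
    exact (Category.id_comp _).trans (Category.comp_id _).symm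
  let iso : ∀ T : Over (Over.mk p), (Gerb.ptsGrp (Over.mk p) G).obj (op T) ≅ (autPre x h).obj (op T) := fun T =>
    (yonedaGrpObjIsoOfRepresentableBy G (grpPre (autPre x h)) r).app (op ((Over.iteratedSliceForward (Over.mk p)).obj T)) ≪≫
      (autPre x h).mapIso (η T).symm.op
  refine ⟨G, inferInstance, hG, ⟨{ iso := fun T => (iso T).groupIsoToMulEquiv, natural := fun {T' T} k a => ?_ }⟩⟩
  have e1 : (Gerb.ptsGrp (Over.mk p) G).map k.op ≫ (iso T').hom = (iso T).hom ≫ (autPre x h).map k.op := by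
    simp only [iso, Iso.trans_hom, Functor.mapIso_hom, Iso.op_hom, Iso.symm_hom, Iso.app_hom, Category.assoc]
    rw [← Functor.map_comp, ← op_comp, ← hη k, op_comp, Functor.map_comp, ← Category.assoc, ← Category.assoc]
    congr 1
    exact (yonedaGrpObjIsoOfRepresentableBy G (grpPre (autPre x h)) r).hom.naturality
      ((Over.iteratedSliceForward (Over.mk p)).map k).op
  have e2 : (iso T').hom ((Gerb.ptsGrp (Over.mk p) G).map k.op a) = autRes x h k ((iso T).hom a) :=
    congrArg (fun t => t a) e1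
  show ((iso T').hom ((Gerb.ptsGrp (Over.mk p) G).map k.op a)).hom.1 ≫ x.map k = _
  rw [e2]
  exact autRes_spec x h k _

/-- An algebraic stack with quasi-separated diagonal has group schemes as stabilizers. -/
theorem exists_stabilizer {Kp : Precoverage Scheme.{u}} (h𝒳 : AlgSt.IsAlgStack Kp 𝒳)
    (hΔ : AlgSt.RepByAlgSpWith AlgSp.IsQuasiSeparatedMor (FibCat.diag (FibCat.toSelf 𝒳)))
    (p : Spec (CommRingCat.of K) ⟶ S) (x : FibCat.overCat (Over.mk p) ⥤ᵇ 𝒳) :
    ∃ (G : Over (Spec (CommRingCat.of K))) (_ : GrpObj G),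
      LocallyOfFiniteType G.hom ∧ Nonempty (Gerb.AutRep x (Gerb.ptsGrp (Over.mk p) G)) := by
  obtain ⟨V, c, hc, hcs⟩ := h𝒳.atlas
  have hg := h𝒳.isStack.1
  have hl : RepByAlgSpWith (AlgSp.LocP @LocallyOfFiniteType) (FibCat.diag (FibCat.toSelf 𝒳)) :=
    Groth.L24.InertiaGen.diag_toSelf_locP_of_cover' Groth.L23.etLocal_lft
      (fun φ ψ hh => haveI := hh; locallyOfFiniteType_of_comp φ ψ) hg h𝒳.diag
      (overCat_isFibGrpd V) (overCat_repByAlgSp V)
      (Groth.L24.St.repWith_mono (fun _ _ _ _ hh => Groth.L23.locP_mono (fun φ (hφ : Smooth φ) => haveI := hφ; (inferInstance : Flat φ)) hh) hc)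
      (Groth.L24.St.repWith_mono (fun _ _ _ _ hh => Groth.L23.locP_mono
        (fun φ (hφ : Smooth φ) => haveI := hφ; (inferInstance : LocallyOfFinitePresentation φ)) hh) hc) hcs
      (Groth.L24.St.repWith_mono (fun _ _ _ _ hh => Groth.L23.locP_mono
        (fun φ (hφ : Smooth φ) => haveI := hφ; (inferInstance : LocallyOfFiniteType φ)) hh) hc)
  have hI := Groth.L24.InertiaGen.inertia_repWith_of_diag hg (repWith_inf pBase_qsMor hl hΔ)
  obtain ⟨F, e, he, hF⟩ := hI (Over.mk p) x
  exact exists_autRep p x hg F e he hF.1 hF.2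

end Groth.L23.StabScheme
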